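import Groth.Agent.Proj16.ClosedSub
import Groth.Agent.TwistX.Global
import Groth.Agent.ProjPt.Sections
import Groth.Agent.InvX.GenLocusPull

/-!
# A closed subscheme of `Proj` from the forms vanishing on it
-/

set_option autoImplicit false
set_option backward.isDefEq.respectTransparency false
set_option backward.isDefEq.respectTransparency.types false

universe u

open SetLike DirectSum AlgebraicGeometry HomogeneousIdeal HomogeneousLocalization CategoryTheory
  CategoryTheory.Limits TopologicalSpace Opposite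

noncomputable section

namespace Groth.Agent.ProjSub16

open Groth.Agent Groth.Agent.AModX Groth.Agent.Proj16

/-- Membership in an inverse image ideal sheaf on the chart of an open immersion. -/
theorem appLE_mem_comap_ideal {X X' : Scheme.{u}} (J : X.IdealSheafData) (f : X' ⟶ X) [IsOpenImmersion f]
    (U : X'.affineOpens) (W : X.affineOpens) (hW : f ''ᵁ U.1 = W.1) (e : U.1 ≤ f ⁻¹ᵁ W.1) (c : Γ(X, W.1)) :
    f.appLE W.1 U.1 e c ∈ (J.comap f).ideal U ↔ c ∈ J.ideal W := by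
  obtain ⟨W, hWa⟩ := W
  obtain rfl : W = f ''ᵁ U.1 := hW.symm
  rw [Scheme.IdealSheafData.ideal_comap_of_isOpenImmersion, Ideal.mem_comap, ← Scheme.Hom.appIso_hom']
  simp

variable {R A : Type u} [CommRing R] [CommRing A] [Algebra R A] (𝒜 : ℕ → Submodule R A) [GradedAlgebra 𝒜]
  {Z : Scheme.{u}} (i : Z ⟶ Proj 𝒜) [IsClosedImmersion i]

/-- A fraction lies in the chart ideal iff its restriction to the closed subscheme is zero. -/
theorem mem_away1Ideal_iff {t : A} (ht : t ∈ 𝒜 1) (x : Away 𝒜 t) :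
    x ∈ away1Ideal 𝒜 i ht ↔ i.app (Proj.basicOpen 𝒜 t) (Proj.awayToSection 𝒜 t x) = 0 := by
  let ι := Proj.awayι 𝒜 t ht one_pos
  have e : (⊤ : (Spec (CommRingCat.of (Away 𝒜 t))).Opens) ≤ ι ⁻¹ᵁ Proj.basicOpen 𝒜 t := by
    rw [← Proj.opensRange_awayι 𝒜 t ht one_pos, Scheme.Hom.preimage_opensRange]
  have h := ConcreteCategory.congr_hom (ProjPt.awayι_appLE 𝒜 ht one_pos e) x
  rw [away1Ideal, chartIdeal, Ideal.mem_comap]
  refine (Iff.of_eq (congrArg (· ∈ (i.ker.comap ι).ideal ⟨⊤, isAffineOpen_top _⟩) h.symm)).trans ?_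
  refine (appLE_mem_comap_ideal i.ker ι ⟨⊤, isAffineOpen_top _⟩
    ⟨Proj.basicOpen 𝒜 t, Proj.isAffineOpen_basicOpen 𝒜 t ht one_pos⟩
    ((Scheme.Hom.image_top_eq_opensRange _).trans (Proj.opensRange_awayι 𝒜 t ht one_pos)) e _).trans ?_
  rw [Scheme.Hom.ker_apply, RingHom.mem_ker]
  rfl

/-- A form as a multiple of the power of a degree-one form. -/
theorem res_globalOf_eq {d : ℕ} {F t : A} (hF : F ∈ 𝒜 d) (ht : t ∈ 𝒜 1) :
    res (Twist.twist 𝒜 (d : ℤ)) (le_top : Proj.basicOpen 𝒜 t ≤ ⊤) (Twist.globalOf 𝒜 ⟨F, hF⟩) =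
      Proj.awayToSection 𝒜 t (Away.mk 𝒜 ht d F (by simpa using hF)) •
        res (Twist.twist 𝒜 (d : ℤ)) (le_top : Proj.basicOpen 𝒜 t ≤ ⊤)
          (Twist.globalOf 𝒜 ⟨t ^ d, by simpa using SetLike.pow_mem_graded d ht⟩) := by
  refine Subtype.ext (funext fun x => Subtype.ext ?_)
  refine Eq.trans ?_ (Twist.coe_smul_val (d : ℤ) x.1 _ _).symm
  show Localization.mk F _ = _ * Localization.mk (t ^ d) _
  erw [ProjectiveSpectrum.Proj.awayToSection_apply]
  rw [Away.val_mk, Localization.mk_eq_mk' (M := Submonoid.powers t), IsLocalization.map_mk',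
    ← Localization.mk_eq_mk', Localization.mk_mul, Localization.mk_eq_mk_iff, Localization.r_iff_exists]
  exact ⟨1, by simp; ring⟩

/-- A form vanishes on a closed subscheme iff its fractions lie in the chart ideals. -/
theorem pullSec_eq_zero_iff (s : Finset A) (hs1 : ∀ f ∈ s, f ∈ 𝒜 1)
    (hcov : ∀ y : Proj 𝒜, ∃ f ∈ s, y ∈ Proj.basicOpen 𝒜 f) {d : ℕ} {F : A} (hF : F ∈ 𝒜 d) :
    InvX.pullElt i (M := Twist.twist 𝒜 (d : ℤ)) (U := ⊤) (Twist.globalOf 𝒜 ⟨F, hF⟩) = 0 ↔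
      InPart 𝒜 i s hs1 d F := by
  let σ : Γ((Scheme.Modules.pullback i).obj (Twist.twist 𝒜 (d : ℤ)), i ⁻¹ᵁ ⊤) :=
    InvX.pullElt i (M := Twist.twist 𝒜 (d : ℤ)) (U := ⊤) (Twist.globalOf 𝒜 ⟨F, hF⟩)
  have key : ∀ f (hf : f ∈ s), res _ (i.preimage_mono (le_top : Proj.basicOpen 𝒜 f ≤ ⊤)) σ = 0 ↔
      Away.mk 𝒜 (hs1 f hf) d F (smul_one_mem 𝒜 hF) ∈ away1Ideal 𝒜 i (hs1 f hf) := by
    intro f hf
    have ht := hs1 f hf
    let e : Γ(Twist.twist 𝒜 (d : ℤ), Proj.basicOpen 𝒜 f) :=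
      res _ le_top (Twist.globalOf 𝒜 ⟨f ^ d, by simpa using SetLike.pow_mem_graded d ht⟩)
    have he : InvX.IsFrame e := TwistX.isFrame_res_globalOf _
      fun y h => y.2 (y.1.isPrime.mem_of_pow_mem d h)
    rw [mem_away1Ideal_iff, InvX.res_pullElt i (le_top : Proj.basicOpen 𝒜 f ≤ ⊤), res_globalOf_eq 𝒜 hF ht, InvX.pullElt_smul]
    refine ⟨fun h => (InvX.isFrame_pullElt i he).coord_unique le_rfl (r' := 0) ?_, fun h => ?_⟩
    · rw [res_self, zero_smul]
      exact h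
    · rw [h, zero_smul]
  constructor
  · intro h f hf _
    rw [← key f hf, show σ = 0 from h]
    exact map_zero ((((Scheme.Modules.pullback i).obj (Twist.twist 𝒜 (d : ℤ))).presheaf.map
      (homOfLE (i.preimage_mono (le_top : Proj.basicOpen 𝒜 f ≤ ⊤))).op).hom)
  · intro h
    refine AModX.eq_of_locally σ 0 fun z _ => ?_
    obtain ⟨f, hf, hy⟩ := hcov (i z)
    refine ⟨i ⁻¹ᵁ Proj.basicOpen 𝒜 f, i.preimage_mono le_top, hy, ?_⟩
    rw [(key f hf).2 (h f hf hF)]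
    exact (map_zero ((((Scheme.Modules.pullback i).obj (Twist.twist 𝒜 (d : ℤ))).presheaf.map
      (homOfLE (i.preimage_mono (le_top : Proj.basicOpen 𝒜 f ≤ ⊤))).op).hom)).symm

variable {B : Type u} [CommRing B] [Algebra R B] (ℬ : ℕ → Submodule R B) [GradedAlgebra ℬ]
  (φ : 𝒜 →+*ᵍ ℬ)

/-- A closed subscheme is the `Proj` of any quotient by the forms vanishing on it. -/
theorem exists_iso (s : Finset A) (hs1 : ∀ f ∈ s, f ∈ 𝒜 1)
    (hs : (HomogeneousIdeal.irrelevant 𝒜).toIdeal = Ideal.span (s : Set A))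
    (hφs : Function.Surjective φ)
    (hker : ∀ (d : ℕ) (F : A) (hF : F ∈ 𝒜 d), φ F = 0 ↔
      InvX.pullElt i (M := Twist.twist 𝒜 (d : ℤ)) (U := ⊤) (Twist.globalOf 𝒜 ⟨F, hF⟩) = 0)
    (hφ : HomogeneousIdeal.irrelevant ℬ ≤ (HomogeneousIdeal.irrelevant 𝒜).map φ) :
    ∃ e : Z ≅ Proj ℬ, e.hom ≫ Proj.map φ hφ = i := by
  have hcov : ∀ y : Proj 𝒜, ∃ f ∈ s, y ∈ Proj.basicOpen 𝒜 f := fun y => by
    obtain ⟨f, hy⟩ := Opens.mem_iSup.mp
      ((Proj.iSup_basicOpen_eq_top 𝒜 (fun f : s => f.1) (by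
        rw [hs, Subtype.range_coe_subtype]; rfl)).ge (Set.mem_univ y))
    exact ⟨f.1, f.2, hy⟩
  have hI : ∀ (d : ℕ) (F : A), F ∈ 𝒜 d → (φ F = 0 ↔ InPart 𝒜 i s hs1 d F) := fun d F hF =>
    (hker d F hF).trans (pullSec_eq_zero_iff 𝒜 i s hs1 hcov hF)
  have := isClosedImmersion_map φ hφ hφs
  have hker' : (Proj.map φ hφ).ker = i.ker := by
    have hcomap : ∀ f : s, (Proj.map φ hφ).ker.comap (Proj.awayι 𝒜 f.1 (hs1 f.1 f.2) one_pos) =
        i.ker.comap (Proj.awayι 𝒜 f.1 (hs1 f.1 f.2) one_pos) := by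
      rintro ⟨f, hf⟩
      have sq : IsPullback (Spec.map (CommRingCat.ofHom (Away.map φ f)))
          (Proj.awayι _ (φ f) (φ.2 (hs1 f hf)) one_pos) (Proj.awayι 𝒜 f (hs1 f hf) one_pos)
          (Proj.map φ hφ) := by
        refine IsOpenImmersion.isPullback _ _ _ _ (Proj.awayι_comp_map φ hφ one_pos _ (hs1 f hf)) ?_
        rw [Proj.opensRange_awayι, Proj.opensRange_awayι, Proj.map_preimage_basicOpen]
      refine comap_eq_of_chartIdeal _ ?_
      rw [chartIdeal_eq_ker _ _ sq]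
      show RingHom.ker (Away.map φ f) = away1Ideal 𝒜 i (hs1 f hf)
      ext x
      obtain ⟨n, a, ha, rfl⟩ := x.mk_surjective 𝒜 (hs1 f hf)
      have ha' : a ∈ 𝒜 n := by simpa using ha
      rw [RingHom.mem_ker, Away.map_mk, ← (HomogeneousLocalization.val_injective _).eq_iff,
        Away.val_mk, HomogeneousLocalization.val_zero, Localization.mk_eq_mk',
        IsLocalization.mk'_eq_zero_iff]
      constructor
      · rintro ⟨⟨_, m, rfl⟩, hm⟩
        have hmI : φ (f ^ m * a) = 0 := by simpa using hm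
        have hmem : f ^ m * a ∈ 𝒜 (m + n) :=
          SetLike.mul_mem_graded (by simpa using SetLike.pow_mem_graded m (hs1 f hf)) ha'
        have h2 := (hI _ _ hmem).1 hmI f hf hmem
        have e : Away.mk 𝒜 (hs1 f hf) n a ha =
            Away.mk 𝒜 (hs1 f hf) (m + n) (f ^ m * a) (smul_one_mem 𝒜 hmem) := by
          apply HomogeneousLocalization.val_injective
          simp only [Away.val_mk]
          rw [Localization.mk_eq_mk_iff, Localization.r_iff_exists]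
          exact ⟨1, by simp [pow_add]; ring⟩
        rw [e]
        exact h2
      · intro hK
        obtain ⟨k, hk⟩ := exists_pow_mul_mem 𝒜 i s hs1 hf n ha' hK
        refine ⟨⟨φ f ^ k, k, rfl⟩, ?_⟩
        show φ f ^ k * φ a = 0
        rw [← map_pow, ← map_mul]
        have hmem : f ^ k * a ∈ 𝒜 (k + n) :=
          SetLike.mul_mem_graded (by simpa using SetLike.pow_mem_graded k (hs1 f hf)) ha'
        refine (hI _ _ hmem).2 fun g hg hb => ?_
        have h1 := hk (k + n)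
        simp only [InPart, proj_of_mem 𝒜 hmem] at h1
        exact h1 g hg hb
    have hcov' : ∀ y : Proj 𝒜, ∃ (f : s) (z : Spec (.of (Away 𝒜 f.1))),
        Proj.awayι 𝒜 f.1 (hs1 f.1 f.2) one_pos z = y := fun y => by
      obtain ⟨f, hf, hy⟩ := hcov y
      rw [← Proj.opensRange_awayι 𝒜 f (hs1 f hf) one_pos] at hy
      exact ⟨⟨f, hf⟩, hy⟩
    exact le_antisymm (ModPairLib.le_of_comap_le _ hcov' fun f => (hcomap f).le)
      (ModPairLib.le_of_comap_le _ hcov' fun f => (hcomap f).ge)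
  exact ⟨@asIso _ _ _ _ (IsClosedImmersion.lift (Proj.map φ hφ) i hker'.le)
    (IsClosedImmersion.isIso_lift _ _ hker'), IsClosedImmersion.lift_fac _ _ _⟩

end Groth.Agent.ProjSub16
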